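import Cfsg.Agent.Lib.ThreePrime.Base
import Cfsg.Agent.Lib.GW.DGroup.Main
import Cfsg.Agent.S0205

/-!
Owner: helper8. The sections of a counterexample of least order.
-/

set_option autoImplicit false

namespace CfsgLib.ThreePrime

open Subgroup

universe u

variable {G : Type u} [Group G] [Finite G]

theorem card_section_dvd (H : Subgroup G) (N : Subgroup H) [N.Normal] : Nat.card (H ⧸ N) ∣ Nat.card G :=
  (card_quotient_dvd_card N).trans (card_subgroup_dvd_card H)

/-- A group involved in `G` has no order divisible by three. -/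
theorem Hyp.not_involves (h : Hyp G) {K : Type*} [Group K] (hK : 3 ∣ Nat.card K) :
    ¬ Cfsg.Involves K G := by
  rintro ⟨H, R, hR, ⟨e⟩⟩
  haveI := hR
  refine h.three (hK.trans ?_)
  rw [← Nat.card_congr e.toEquiv]
  exact card_section_dvd H _

/-- A proper simple section is a Suzuki group. -/
theorem Hyp.section_isSz (h : Hyp G) (H : Subgroup G) (N : Subgroup H) [N.Normal]
    (hs : IsSimpleGroup (H ⧸ N)) (hn : ¬ IsMulCommutative (H ⧸ N))
    (hlt : Nat.card (H ⧸ N) < Nat.card G) : Cfsg.Lie.IsoSuzuki (H ⧸ N) :=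
  h.small _ hs hn (fun h3 => h.three (h3.trans (card_section_dvd H N))) hlt

theorem Hyp.even (h : Hyp G) : Even (Nat.card G) := by
  by_contra hev
  haveI := h.simple
  haveI := Cfsg.Agent.S0205.result (Nat.not_even_iff_odd.mp hev)
  exact h.nonab ⟨⟨IsSimpleGroup.comm_iff_isSolvable.mpr inferInstance⟩⟩

theorem Hyp.oddCore_eq_bot (h : Hyp G) : Cfsg.oddCore G = ⊥ := by
  haveI := h.simple
  rcases IsSimpleGroup.eq_bot_or_eq_top_of_normal (Cfsg.oddCore G) inferInstance with e | e
  · exact e
  · exfalso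
    have ho := CfsgLib.GW.DGroup.odd_oddCore G
    rw [e, card_top] at ho
    exact Nat.not_odd_iff_even.mpr h.even ho

end CfsgLib.ThreePrime
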