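import Cfsg.Agent.Lib.ThreePrime.SetupFinal
import Cfsg.Agent.Lib.ThreePrime.Comp.Main
import Cfsg.Agent.Lib.ThreePrime.Point.Main
import Cfsg.Agent.Lib.ThreePrime.Block.Step

/-!
Owner: helper8. Simple groups of order prime to three.
-/

set_option autoImplicit false

namespace CfsgLib.ThreePrime

universe u

/-- The groups of order prime to three. -/
theorem goal_result : Goal.{u} := goal_of_steps setupStep_result compStep pointStep Block.blockStep

end CfsgLib.ThreePrime
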