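import Cfsg.Agent.Lib.ThreePrime.Sections
import Cfsg.Agent.Lib.Bender.Dichotomy.Setup
import Cfsg.Agent.S1297

/-!
Owner: helper8. The cores of the involution centralisers of a counterexample of least order.
-/

set_option autoImplicit false
set_option linter.style.haveILetI false
set_option linter.unusedSectionVars false

namespace CfsgLib.ThreePrime

open Subgroup CfsgLib.Signalizer CfsgLib.Signalizer.Gen CfsgLib.Bender

universe u

local instance factTwoCores : Fact (Nat.Prime 2) := ⟨Nat.prime_two⟩

variable {G : Type u} [Group G] [Finite G]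

/-- The centralizer of a non-identity element is proper. -/
theorem Hyp.centralizer_ne_top (h : Hyp G) {x : G} (hx : x ≠ 1) : centralizer ({x} : Set G) ≠ ⊤ := by
  intro e
  haveI := h.simple
  have hc : x ∈ center G := mem_center_iff.mpr fun g =>
    (mem_centralizer_singleton_iff.mp (e.ge (mem_top g)))
  rcases IsSimpleGroup.eq_bot_or_eq_top_of_normal (center G) inferInstance with e' | e'
  · rw [e'] at hc; exact hx (mem_bot.mp hc)
  · exact h.nonab ⟨⟨fun a b => (mem_center_iff.mp (e'.ge (mem_top b)) a)⟩⟩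

/-- The simple quotient of a component of an involution centraliser is a Suzuki group. -/
theorem Hyp.component_isSz (h : Hyp G) {x : G} (hx : orderOf x = 2)
    (K : Subgroup (↥(centralizer ({x} : Set G)) ⧸ Cfsg.oddCore ↥(centralizer ({x} : Set G))))
    (hK : Cfsg.IsComponent K) : Cfsg.Lie.IsoSuzuki (K ⧸ center K) := by
  haveI := hK.2.2
  have hd : Nat.card (K ⧸ center K) ∣ Nat.card (centralizer ({x} : Set G)) :=
    ((card_quotient_dvd_card _).trans (card_subgroup_dvd_card K)).trans (card_quotient_dvd_card _)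
  refine h.small _ hK.2.2 ?_ (fun h3 => h.three (h3.trans (hd.trans (card_subgroup_dvd_card _)))) ?_
  · intro hcm
    have h1 : commutator K ≤ center K := by
      rw [← Subgroup.Normal.quotient_commutative_iff_commutator_le]
      exact ⟨⟨hcm.is_comm.comm⟩⟩
    have h2 : (⊤ : Subgroup K) ≤ center K := hK.2.1.commutator_eq_top ▸ h1
    haveI : Nontrivial (K ⧸ center K) := IsSimpleGroup.toNontrivial
    exact (QuotientGroup.nontrivial_iff.mp this) (top_le_iff.mp h2)
  · refine lt_of_le_of_lt (Nat.le_of_dvd Nat.card_pos hd) (lt_of_le_of_ne (card_le_card_group _) fun e => ?_)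
    exact h.centralizer_ne_top (fun e' => by rw [e', orderOf_one] at hx; omega) (eq_top_of_card_eq _ e)

variable (hlb : ∀ (X : Type u) [Group X] [Finite X], Cfsg.Lie.IsoSuzuki X → Cfsg.IsLocallyBalanced X)
include hlb

theorem Hyp.balanced (h : Hyp G) : Cfsg.IsBalanced G :=
  Cfsg.Agent.S1297.result fun _ hx K hK => hlb _ (h.component_isSz hx K hK)

theorem Hyp.coreFacts (h : Hyp G) : CoreFacts G := by
  have hbal : ∀ x y : G, orderOf x = 2 → orderOf y = 2 → Commute x y →
      core x ⊓ centralizer ({y} : Set G) ≤ core y :=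
    fun x y hx hy hxy => ((h.balanced hlb) x y hx hy hxy).le.trans inf_le_left
  have hfun : ∀ V : Subgroup G, Cfsg.IsElementaryAbelian 2 V → 8 ≤ Nat.card V →
      Cfsg.IsSolvableSignalizerFunctor 2 V (fun x => core x) := fun V hV h8 =>
    solvable_functor_of_equivariant
      (fun a _ => ⟨Dichotomy.core2_le a,
        fun hd => Nat.not_even_iff_odd.mpr (Dichotomy.odd_core2 a) (even_iff_two_dvd.mpr hd),
        Cfsg.Agent.S0205.result (Dichotomy.odd_core2 a)⟩)
      (fun a g _ => Dichotomy.core2_conj a g)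
      (fun a b ha hb hab => hbal a b ha.1 hb.1 hab) hV h8
  refine ⟨hbal, fun V hV h8 => Nat.not_even_iff_odd.mp fun he => Solv.fam_not_dvd
      (closure_eq_of_le hV h8 (hfun V hV h8) le_rfl (le_trans (by norm_num : (2 : ℕ) ^ 2 ≤ 8) h8)).2
      (even_iff_two_dvd.mp he),
    fun V hV h8 v hv hv1 => le_antisymm ?_ (le_inf ?_ (Dichotomy.core2_le v)),
    fun V hV h8 E hE h4 => (closure_eq_of_le hV h8 (hfun V hV h8) hE h4).1⟩
  · exact Solv.fam_fix (closure_eq_of_le hV h8 (hfun V hV h8) le_rfl
      (le_trans (by norm_num : (2 : ℕ) ^ 2 ≤ 8) h8)).2 hv hv1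
  · exact le_iSup (fun a : {a : G // a ∈ V ∧ a ≠ 1} => core (a : G)) ⟨v, hv, hv1⟩

end CfsgLib.ThreePrime
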