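import Cfsg.Agent.Lib.ThreePrime.Setup
import Cfsg.Agent.Lib.ThreePrime.Cores
import Cfsg.Agent.Lib.Lie.RankOneClass.Regular

/-!
Owner: helper8. Simple groups of order prime to three: the induction.
-/

set_option autoImplicit false

namespace CfsgLib.ThreePrime

universe u

/-- The statement that simple groups of order prime to three are Suzuki groups. -/
def Goal : Prop :=
  ∀ (G : Type u) [Group G] [Finite G], IsSimpleGroup G → ¬ IsMulCommutative G → ¬ 3 ∣ Nat.card G →
    Cfsg.Lie.IsoSuzuki G

/-- B, given the local balance of the Suzuki groups. -/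
theorem setupStep
    (hlb : ∀ (X : Type u) [Group X] [Finite X], Cfsg.Lie.IsoSuzuki X → Cfsg.IsLocallyBalanced X) :
    SetupStep.{u} :=
  setupStep_of_cores fun _ _ _ h => h.coreFacts hlb

/-- The slices give the theorem. -/
theorem goal_of_steps (hB : SetupStep.{u}) (hC : CompStep.{u}) (hD : PointStep.{u})
    (hEF : BlockStep.{u}) : Goal.{u} := by
  have key : ∀ n : ℕ, ∀ (G : Type u) [Group G] [Finite G], Nat.card G = n → IsSimpleGroup G →
      ¬ IsMulCommutative G → ¬ 3 ∣ Nat.card G → Cfsg.Lie.IsoSuzuki G := by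
    intro n
    induction n using Nat.strong_induction_on with
    | _ n IH =>
      intro G _ _ hn hs hna h3
      by_contra hG
      exact false_of_steps hB hC hD hEF G ⟨hs, hna, h3,
        fun X _ _ hXs hXn hX3 hlt => IH _ (hn ▸ hlt) X rfl hXs hXn hX3, hG⟩
  exact fun G _ _ hs hna h3 => key _ G rfl hs hna h3

/-- The order form. -/
theorem isSuzuki_of_goal (hgoal : Goal.{u}) (G : Type u) [Group G] [Finite G] [IsSimpleGroup G]
    (hG : ∃ a b : G, a * b ≠ b * a) (h3 : ¬ 3 ∣ Nat.card G) : Cfsg.IsSuzuki G :=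
  CfsgLib.Lie.RankOneClass.isSuzuki_of_isoSuzuki
    (hgoal G inferInstance (fun h => hG.elim fun a ⟨b, hab⟩ => hab (h.is_comm.comm a b)) h3)

end CfsgLib.ThreePrime
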