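import Cfsg.Prelude.Def_Sz
import Cfsg.Prelude.Def_Local
import Cfsg.Prelude.Def_TwoFusion
import Cfsg.Prelude.Def_LocalEven
import Cfsg.Prelude.Def_Involutions
import Mathlib.GroupTheory.GroupAction.Quotient
import Mathlib.GroupTheory.GroupAction.FixingSubgroup

/-!
Owner: helper8. Simple groups of order prime to three: the standing hypotheses and vocabulary.
-/

set_option autoImplicit false

namespace CfsgLib.ThreePrime

open Subgroup

universe u

variable {G : Type u} [Group G]

/-- A counterexample of least order. -/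
structure Hyp (G : Type u) [Group G] [Finite G] : Prop where
  simple : IsSimpleGroup G
  nonab : ¬ IsMulCommutative G
  three : ¬ 3 ∣ Nat.card G
  small : ∀ (X : Type u) [Group X] [Finite X], IsSimpleGroup X → ¬ IsMulCommutative X →
    ¬ 3 ∣ Nat.card X → Nat.card X < Nat.card G → Cfsg.Lie.IsoSuzuki X
  notSz : ¬ Cfsg.Lie.IsoSuzuki G

/-- `O(C(t))`. -/
abbrev core (t : G) : Subgroup G := Cfsg.centralizerPPrimeCore 2 t

/-- The subgroup generated by the cores of the elements of `A`. -/
abbrev W0 (A : Subgroup G) : Subgroup G := Cfsg.signalizerClosure A (fun t => core t)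

/-- The point stabiliser `N(A) W0`. -/
abbrev pM (A : Subgroup G) : Subgroup G := normalizer (A : Set G) ⊔ W0 A

/-- The points. -/
abbrev Pts (A : Subgroup G) : Type u := G ⧸ pM A

/-- The base point. -/
abbrev base (A : Subgroup G) : Pts A := ((1 : G) : Pts A)

/-- The points fixed by `x`. -/
abbrev Fix (A : Subgroup G) (x : G) : Set (Pts A) := MulAction.fixedBy (Pts A) x

/-- The pointwise stabiliser of the block of `c`. -/
abbrev blockKer (A : Subgroup G) (c : G) : Subgroup G := fixingSubgroup G (Fix A c)

/-- The cores of the involution centralisers form a complete balanced functor on every elementary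
subgroup of order at least eight, and its closure is determined by any of its four-subgroups. -/
structure CoreFacts (G : Type u) [Group G] [Finite G] : Prop where
  balance : ∀ x y : G, orderOf x = 2 → orderOf y = 2 → Commute x y →
    core x ⊓ centralizer ({y} : Set G) ≤ core y
  odd : ∀ V : Subgroup G, Cfsg.IsElementaryAbelian 2 V → 8 ≤ Nat.card V → Odd (Nat.card (W0 V))
  inf : ∀ V : Subgroup G, Cfsg.IsElementaryAbelian 2 V → 8 ≤ Nat.card V →
    ∀ v ∈ V, v ≠ 1 → W0 V ⊓ centralizer ({v} : Set G) = core v
  four : ∀ V : Subgroup G, Cfsg.IsElementaryAbelian 2 V → 8 ≤ Nat.card V →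
    ∀ E ≤ V, 4 ≤ Nat.card E → W0 E = W0 V

/-- A minimal strongly closed subgroup which controls fusion in `S`. -/
structure Setting [Finite G] (S : Sylow 2 G) (A : Subgroup G) : Prop where
  hyp : Hyp G
  le : A ≤ (S : Subgroup G)
  elem : Cfsg.IsElementaryAbelian 2 A
  card : 8 ≤ Nat.card A
  closed : Cfsg.IsStronglyClosed A (S : Subgroup G)
  ctrl : ∀ x ∈ (S : Subgroup G), ∀ g : G, g * x * g⁻¹ ∈ (S : Subgroup G) →
    ∃ m ∈ normalizer (A : Set G), m * x * m⁻¹ = g * x * g⁻¹
  cores : CoreFacts G
  irred : ∀ B ≤ A, B ≠ ⊥ → (∀ g ∈ normalizer (A : Set G), ∀ b ∈ B, g * b * g⁻¹ ∈ B) → B = A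

/-- The situation once the centralisers of the elements of `A` fix the base point. -/
structure Pointed [Finite G] (S : Sylow 2 G) (A : Subgroup G) : Prop extends Setting S A where
  cent : ∀ a ∈ A, a ≠ 1 → centralizer ({a} : Set G) ≤ pM A

/-- A bad involution: it fixes the base point and its centraliser does not. -/
structure Bad (A : Subgroup G) (c : G) : Prop where
  ord : orderOf c = 2
  mem : c ∈ pM A
  not_le : ¬ centralizer ({c} : Set G) ≤ pM A

/-- The properties of the block of a bad involution `c` centralising `A`; `q` is the order of `A`. -/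
structure BlockFacts [Finite G] (A : Subgroup G) (c : G) : Prop where
  card_fix : Nat.card (Fix A c) = Nat.card A ^ 2 + 1
  trans : ∀ x ∈ Fix A c, ∃ g ∈ centralizer ({c} : Set G), g • base A = x
  core_eq : core c = W0 A ⊓ centralizer ({c} : Set G)
  comp : ∃ K : Subgroup (↥(centralizer ({c} : Set G)) ⧸ Cfsg.oddCore ↥(centralizer ({c} : Set G))),
    Cfsg.IsComponent K ∧ Cfsg.Lie.IsoSuzuki K ∧
      Nat.card K = Nat.card A ^ 2 * (Nat.card A ^ 2 + 1) * (Nat.card A - 1) ∧
      (A.subgroupOf (centralizer ({c} : Set G))).map (QuotientGroup.mk' _) ≤ K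
  fix_eq : ∀ w ∈ blockKer A c, orderOf w = 2 → Commute w c → Fix A w = Fix A c

end CfsgLib.ThreePrime
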