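import Cfsg.Agent.Lib.ThreePrime.Block.SzFacts
import Cfsg.Agent.Lib.ThreePrime.Sz.Facts

/-!
Owner: helper10. The Suzuki groups have the properties used in the block analysis.
-/

set_option autoImplicit false
set_option linter.style.haveILetI false

namespace CfsgLib.ThreePrime.Sz

open Subgroup

universe u

/-- The squares of the elements of the Sylow subgroup lie in its centre. -/
theorem sq_mem_Z {X : Type u} [Group X] (h : Cfsg.Lie.IsoSuzuki X) {j : X} (hj : orderOf j = 2) {x : X}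
    (hx : x ∈ centralizer ({j} : Set X)) : x * x ∈ Z j := by
  obtain ⟨q, n, hn, hn3, rfl, hq⟩ := exists_q h
  by_cases hxZ : x ∈ Z j
  · exact mul_mem hxZ hxZ
  have hZle : Z j ≤ centralizer ({x} : Set X) := fun z hz =>
    mem_centralizer_singleton_iff.2 (mem_centralizer_iff.1 hz x hx).symm
  have hidx : ((Z j).subgroupOf (centralizer ({x} : Set X))).index = 2 := by
    have h1 := ((Z j).subgroupOf (centralizer ({x} : Set X))).index_mul_card
    rw [Nat.card_congr (subgroupOfEquivOfLe hZle).toEquiv, card_Z h hj hq,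
      card_cent_of_not_mem h hj hq hx hxZ] at h1
    exact Nat.eq_of_mul_eq_mul_right (by positivity) h1
  exact mem_subgroupOf.1 (((Z j).subgroupOf (centralizer ({x} : Set X))).mul_self_mem_of_index_two hidx
    ⟨x, mem_centralizer_singleton_iff.2 rfl⟩)

theorem szFacts {X : Type u} [Group X] [Finite X] (h : Cfsg.Lie.IsoSuzuki X) :
    ∃ m, Block.SzFacts X m := by
  haveI : Fact (Nat.Prime 2) := ⟨Nat.prime_two⟩
  obtain ⟨q, n, ⟨m, rfl⟩, hn, rfl, hq⟩ := exists_q h
  have hord : ∀ x : X, x ^ 2 = 1 → x ≠ 1 → orderOf x = 2 := fun x h2 h1 => orderOf_eq_prime h2 h1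
  -- every Sylow subgroup is the centraliser of an involution
  have hT := exists_sylow_eq h
  refine ⟨m, ⟨by omega, isSimple h, hq, fun T => ?_, fun T x hx => ?_, fun T => ?_,
    fun T x hx hx2 y hy => ?_, fun T x hx hx2 hx1 => ?_, fun T T' hne => ?_,
    fun T x hx y hy hxy hx2 => ?_, fun T x hx hx2 => ?_, fun T => ?_,
    fun T x hx y hy hx2 hx1 hy2 hy1 => ?_, fun φ hφ => ?_, exists_orderOf_gt h hq⟩⟩
  · obtain ⟨j, hj, e⟩ := hT T
    rw [e, card_cent h hj hq]
  · obtain ⟨j, hj, e⟩ := hT T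
    rw [e] at hx
    rw [show x ^ 4 = x * x * (x * x) by simp [pow_succ, mul_assoc]]
    exact ((mem_Z_iff h hj).1 (sq_mem_Z h hj hx)).2
  · obtain ⟨j, hj, e⟩ := hT T
    rw [e, ← card_Z h hj hq]
    exact Nat.card_congr (Equiv.subtypeEquivRight fun x => by rw [mem_Z_iff h hj, pow_two])
  · obtain ⟨j, hj, e⟩ := hT T
    rw [e] at hx hy
    exact (mem_centralizer_iff.1 ((mem_Z_iff h hj).2 ⟨hx, by rw [← pow_two, hx2]⟩) y hy).symm
  · rw [sylow_eq_cent h T (hord x hx2 hx1) hx]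
  · obtain ⟨j, hj, e⟩ := hT T
    obtain ⟨i, hi, e'⟩ := hT T'
    rw [e, e', eq_bot_iff]
    rintro x ⟨hxj, hxi⟩
    refine Subgroup.mem_bot.2 (inter_eq_one h hj hi (fun hz => hne (Sylow.ext ?_)) hxi hxj)
    rw [e, e', cent_eq_of_mem h hj hi hz]
  · obtain ⟨j, hj, e⟩ := hT T
    rw [e] at hx hy
    have hz : x ^ 2 ∈ Z j := by rw [pow_two]; exact sq_mem_Z h hj hx
    have hio := hord (x ^ 2) (by rw [pow_two, ((mem_Z_iff h hj).1 hz).2]) hx2
    have := roots h hio (pow_two x).symm (by rw [← pow_two, ← hxy])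
    rw [pow_two]
    exact ((mem_Z_iff h hio).1 this).2
  · obtain ⟨j, hj, e⟩ := hT T
    rw [e] at hx ⊢
    have hxZ : x ∉ Z j := fun hz => hx2 (by rw [pow_two]; exact ((mem_Z_iff h hj).1 hz).2)
    rw [inf_eq_right.2 (cent_le_of_mem h hj hx fun e => hx2 (by rw [e, one_pow])),
      card_cent_of_not_mem h hj hq hx hxZ]
  · obtain ⟨j, hj, e⟩ := hT T
    rw [e, index_normalizer h hj hq]
  · obtain ⟨j, hj, e⟩ := hT T
    rw [e] at hx hy ⊢
    exact exists_normalizer_conj h hj ((mem_Z_iff h hj).2 ⟨hx, by rw [← pow_two, hx2]⟩)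
      ((mem_Z_iff h hj).2 ⟨hy, by rw [← pow_two, hy2]⟩) hx1 hy1
  · obtain ⟨k, hk⟩ := hφ
    obtain ⟨g, hg, -⟩ := inner_of_pow h φ hk
    exact ⟨g, hg⟩

theorem szStep : Block.SzStep.{u} := fun _ _ _ h => szFacts h

end CfsgLib.ThreePrime.Sz
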