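import Cfsg.Agent.Lib.ThreePrime.Base

/-!
Owner: helper8. The slices of the proof that simple groups of order prime to three are Suzuki groups.
-/

set_option autoImplicit false

namespace CfsgLib.ThreePrime

open Subgroup

universe u

/-- B: a counterexample has a setting. -/
def SetupStep : Prop :=
  ∀ (G : Type u) [Group G] [Finite G], Hyp G → ∃ (S : Sylow 2 G) (A : Subgroup G), Setting S A

/-- C: no component of `C(a)` is moved by `A`. -/
def CompStep : Prop :=
  ∀ (G : Type u) [Group G] [Finite G] (S : Sylow 2 G) (A : Subgroup G), Setting S A →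
    ∀ a ∈ A, a ≠ 1 → centralizer ({a} : Set G) ≤ pM A

/-- D: the elementary facts about the points. -/
def PointStep : Prop :=
  ∀ (G : Type u) [Group G] [Finite G] (S : Sylow 2 G) (A : Subgroup G), Pointed S A →
    pM A ≠ ⊤ ∧ (∀ a ∈ A, a ≠ 1 → Fix A a = {base A}) ∧
      (∀ a ∈ A, ∀ b ∈ A, a ≠ 1 → b ≠ 1 → ∃ g ∈ normalizer (A : Set G), g * a * g⁻¹ = b) ∧
      (∃ k, Nat.card A = 2 ^ (2 * k + 1)) ∧
      (∃ c, Bad A c ∧ c ∈ normalizer (A : Set G)) ∧
      ∀ c, Bad A c → c ∈ normalizer (A : Set G) → c ∈ centralizer (A : Set G) ∧ BlockFacts A c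

/-- E and F: the bad involutions lead to a contradiction. -/
def BlockStep : Prop :=
  ∀ (G : Type u) [Group G] [Finite G] (S : Sylow 2 G) (A : Subgroup G), Pointed S A →
    (∀ a ∈ A, a ≠ 1 → Fix A a = {base A}) →
    (∀ a ∈ A, ∀ b ∈ A, a ≠ 1 → b ≠ 1 → ∃ g ∈ normalizer (A : Set G), g * a * g⁻¹ = b) →
    (∃ c, Bad A c ∧ c ∈ centralizer (A : Set G)) →
    (∀ c, Bad A c → c ∈ normalizer (A : Set G) → c ∈ centralizer (A : Set G) ∧ BlockFacts A c) → False

/-- The minimal counterexample does not exist, given the slices. -/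
theorem false_of_steps (hB : SetupStep.{u}) (hC : CompStep.{u}) (hD : PointStep.{u})
    (hEF : BlockStep.{u}) (G : Type u) [Group G] [Finite G] (h : Hyp G) : False := by
  obtain ⟨S, A, hS⟩ := hB G h
  have hP : Pointed S A := ⟨hS, hC G S A hS⟩
  obtain ⟨-, hfix, htr, -, ⟨c, hc, hcN⟩, hbad⟩ := hD G S A hP
  exact hEF G S A hP hfix htr ⟨c, hc, (hbad c hc hcN).1⟩ hbad

end CfsgLib.ThreePrime
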