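import Cfsg.Agent.Lib.ThreePrime.Sections
import Cfsg.Agent.Lib.ThreePrime.Spec
import Cfsg.Agent.Lib.Bender.Dichotomy.Setup
import Cfsg.Agent.Lib.ZStar.Main
import Cfsg.Agent.S2796
import Cfsg.Agent.S1297

/-!
Owner: helper8. A counterexample of least order has a setting.
-/

set_option autoImplicit false
set_option linter.style.haveILetI false
set_option linter.unusedSectionVars false

namespace CfsgLib.ThreePrime

open Subgroup CfsgLib.Signalizer

universe u

local instance factTwoSetup : Fact (Nat.Prime 2) := ⟨Nat.prime_two⟩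

variable {G : Type u} [Group G] [Finite G]

/-- The constrained sections have only Suzuki factors. -/
theorem Hyp.hsec (h : Hyp G) (K R : Subgroup G) [hR : (R.subgroupOf K).Normal]
    (hcon : Subgroup.centralizer (Cfsg.pCore 2 (K ⧸ R.subgroupOf K) : Set (K ⧸ R.subgroupOf K)) ≤
      Cfsg.pCore 2 (K ⧸ R.subgroupOf K)) :
    Cfsg.IsCompositionKGroupWith Cfsg.IsSuzukiOrPSL2OddPowerThree (K ⧸ R.subgroupOf K) := by
  intro H _ N _ hs hn
  have hdvd : Nat.card (H ⧸ N) ∣ Nat.card (K ⧸ R.subgroupOf K) := card_section_dvd H N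
  have hdvd' := card_section_dvd K (R.subgroupOf K)
  refine Or.inl (h.small _ hs hn (fun h3 => h.three (h3.trans (hdvd.trans hdvd'))) ?_)
  by_contra hge
  have heq : Nat.card (K ⧸ R.subgroupOf K) = Nat.card G :=
    le_antisymm (Nat.le_of_dvd Nat.card_pos hdvd')
      ((not_lt.mp hge).trans (Nat.le_of_dvd Nat.card_pos hdvd))
  have hK : K = ⊤ := eq_top_of_card_eq K (le_antisymm (card_le_card_group K)
    (heq.ge.trans (Nat.le_of_dvd Nat.card_pos (card_quotient_dvd_card _))))
  subst hK
  have hR1 : R.subgroupOf ⊤ = ⊥ := by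
    refine eq_bot_of_card_eq _ ?_
    have h2 := (R.subgroupOf (⊤ : Subgroup G)).card_eq_card_quotient_mul_card_subgroup
    rw [heq, card_top] at h2
    exact Nat.eq_of_mul_eq_mul_left (Nat.card_pos (α := G)) (h2.symm.trans (mul_one _).symm)
  let e : ((⊤ : Subgroup G) ⧸ R.subgroupOf ⊤) ≃* G :=
    ((QuotientGroup.quotientMulEquivOfEq hR1).trans QuotientGroup.quotientBot).trans topEquiv
  haveI : IsSimpleGroup ((⊤ : Subgroup G) ⧸ R.subgroupOf ⊤) :=
    haveI := h.simple
    haveI : Nontrivial G := IsSimpleGroup.toNontrivial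
    haveI : Nontrivial ((⊤ : Subgroup G) ⧸ R.subgroupOf ⊤) := e.toEquiv.nontrivial
    IsSimpleGroup.isSimpleGroup_of_surjective e.symm.toMonoidHom e.symm.surjective
  rcases IsSimpleGroup.eq_bot_or_eq_top_of_normal
      (Cfsg.pCore 2 ((⊤ : Subgroup G) ⧸ R.subgroupOf ⊤)) inferInstance with hb | ht
  · rw [hb] at hcon
    have htop : (⊤ : Subgroup ((⊤ : Subgroup G) ⧸ R.subgroupOf ⊤)) ≤ ⊥ := fun x _ =>
      hcon (mem_centralizer_iff.mpr fun y hy => by rw [mem_bot.mp hy, one_mul, mul_one])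
    exact absurd htop (fun h1 => top_ne_bot (le_bot_iff.mp h1))
  · obtain ⟨k, hk⟩ := (CfsgLib.Core.isPGroup_pCore 2
      ((⊤ : Subgroup G) ⧸ R.subgroupOf ⊤)).exists_card_eq
    rw [ht, card_top, heq] at hk
    have hp : IsPGroup 2 G := IsPGroup.of_card hk
    haveI := h.simple
    haveI := hp.isNilpotent
    exact h.nonab ⟨⟨IsSimpleGroup.comm_iff_isSolvable.mpr inferInstance⟩⟩

theorem sylow_ne_bot (h : Hyp G) (S : Sylow 2 G) : (S : Subgroup G) ≠ ⊥ :=
  S.ne_bot_of_dvd_card (even_iff_two_dvd.mp h.even)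

/-- Fusion of elements inside `S` is controlled by the normalizer of a strongly closed elementary
subgroup with this property for sets. -/
theorem ctrl_of_controls {S : Sylow 2 G} {B : Subgroup G}
    (hcl : ∀ (g : G), ∀ b ∈ B, g * b * g⁻¹ ∈ (S : Subgroup G) → g * b * g⁻¹ ∈ B)
    (hBS : B ≤ (S : Subgroup G)) (hc : Cfsg.ControlsStrongFusion 2 B) :
    ∀ x ∈ (S : Subgroup G), ∀ g : G, g * x * g⁻¹ ∈ (S : Subgroup G) →
      ∃ m ∈ normalizer (B : Set G), m * x * m⁻¹ = g * x * g⁻¹ := by
  obtain ⟨T, hBT, hT⟩ := hc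
  obtain ⟨h, hh⟩ := MulAction.exists_smul_eq G T S
  have hmem : ∀ y, y ∈ (S : Subgroup G) ↔ h⁻¹ * y * h ∈ (T : Subgroup G) := by
    intro y
    rw [← hh, Sylow.coe_subgroup_smul, Subgroup.mem_pointwise_smul_iff_inv_smul_mem]
    simp [MulAut.smul_def, mul_assoc]
  have hin : ∀ b ∈ B, h * b * h⁻¹ ∈ B := fun b hb => hcl h b hb ((hmem _).mpr (by
    simpa [mul_assoc] using hBT hb))
  have hN : h ∈ normalizer (B : Set G) :=
    mem_normalizer_iff_map_conj_eq.2 (eq_of_le_of_card_ge (by rintro _ ⟨b, hb, rfl⟩; exact hin b hb)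
      (card_map_of_injective (MulAut.conj h).injective).ge)
  intro x hx g hg
  obtain ⟨-, hctl⟩ := hT {h⁻¹ * x * h} (Set.singleton_subset_iff.mpr ((hmem x).mp hx))
  obtain ⟨m, hm, hme⟩ := hctl (h⁻¹ * g * h) (by
    rw [Set.image_singleton, Set.singleton_subset_iff]
    show _ ∈ (T : Subgroup G)
    simpa [mul_assoc] using (hmem _).mp hg)
  refine ⟨h * m * h⁻¹, mul_mem (mul_mem hN hm) (inv_mem hN), ?_⟩
  have h1 := hme _ (Set.mem_singleton _)
  calc h * m * h⁻¹ * x * (h * m * h⁻¹)⁻¹ = h * (m * (h⁻¹ * x * h) * m⁻¹) * h⁻¹ := by group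
    _ = _ := by rw [← h1]; group

/-- A strongly closed elementary subgroup of order two is generated by an isolated involution. -/
theorem isolated_of_card_two {S : Sylow 2 G} {A : Subgroup G} (hAS : A ≤ (S : Subgroup G))
    (hcl : ∀ (g : G), ∀ b ∈ A, g * b * g⁻¹ ∈ (S : Subgroup G) → g * b * g⁻¹ ∈ A)
    (h2 : Nat.card A = 2) {a : G} (ha : a ∈ A) (ha1 : a ≠ 1) (hao : orderOf a = 2) :
    Cfsg.IsIsolatedInvolution a := by
  have hone : ∀ y ∈ A, y ≠ 1 → y = a := by
    intro y hy hy1
    obtain ⟨v, hv, huniq⟩ := (Nat.card_eq_two_iff' (1 : A)).mp h2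
    exact congrArg Subtype.val
      ((huniq ⟨y, hy⟩ fun e => hy1 (congrArg Subtype.val e)).trans
        (huniq ⟨a, ha⟩ fun e => ha1 (congrArg Subtype.val e)).symm)
  refine ⟨hao, fun g hg => ?_⟩
  set w := g * a * g⁻¹ with hw
  have hw2 : orderOf w = 2 := by rw [hw, Signalizer.orderOf_conj, hao]
  have hel := Bender.Dichotomy.elem_sup_zpowers
    (Bender.Dichotomy.elem_zpowers (Bender.Dichotomy.sq_of_orderOf_two hao))
    (Bender.Dichotomy.sq_of_orderOf_two hw2) (fun y hy => by
      obtain ⟨j, rfl⟩ := mem_zpowers_iff.mp hy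
      exact (hg.zpow_left j).eq)
  obtain ⟨P, hP⟩ := (elementary_isPGroup hel).exists_le_sylow
  obtain ⟨k, hk⟩ := MulAction.exists_smul_eq G P S
  have hmem : ∀ y ∈ (P : Subgroup G), k * y * k⁻¹ ∈ (S : Subgroup G) := by
    intro y hy
    rw [← hk, Sylow.coe_subgroup_smul, Subgroup.mem_pointwise_smul_iff_inv_smul_mem]
    simpa [MulAut.smul_def, mul_assoc] using hy
  have h1 := hone _ (hcl k a ha (hmem a (hP (mem_sup_left (mem_zpowers a)))))
    (by simpa using ha1)
  have h2' : k * w * k⁻¹ ∈ A := by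
    have h3 := hcl (k * g) a ha (by
      have := hmem w (hP (mem_sup_right (mem_zpowers w)))
      rw [hw] at this
      simpa [mul_assoc] using this)
    rw [hw]
    simpa [mul_assoc] using h3
  have h4 := hone _ h2' (by
    intro e
    have : w = 1 := by simpa [mul_assoc] using congrArg (fun y => k⁻¹ * y * k) e
    rw [this, orderOf_one] at hw2
    omega)
  rw [← h1] at h4
  exact mul_left_cancel (mul_right_cancel h4)

/-- In a group of order prime to three the normalizer of a four-group fixes one of its involutions. -/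
theorem three_orbit_false (h : Hyp G) {A : Subgroup G} (helA : Cfsg.IsElementaryAbelian 2 A)
    (hk : Nat.card A = 2 ^ 2)
    (hfix : ∀ a ∈ A, a ≠ 1 → (∀ g ∈ normalizer (A : Set G), g * a * g⁻¹ = a) → False) : False := by
  classical
  letI act : MulAction (normalizer (A : Set G)) {a : A // a ≠ 1} :=
    { smul := fun g a => ⟨⟨(g : G) * (a.1 : G) * (g : G)⁻¹, (mem_normalizer_iff.mp g.2 _).mp a.1.2⟩,
        fun e => a.2 (Subtype.ext (by simpa using congrArg Subtype.val e))⟩
      one_smul := fun a => Subtype.ext (Subtype.ext (by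
        show (1 : G) * (a.1 : G) * (1 : G)⁻¹ = _
        simp))
      mul_smul := fun g k a => Subtype.ext (Subtype.ext (by
        show ((g : G) * k) * (a.1 : G) * ((g : G) * k)⁻¹ = (g : G) * ((k : G) * a.1 * (k : G)⁻¹) * (g : G)⁻¹
        group)) }
  haveI : Fintype A := Fintype.ofFinite _
  have hc3 : Nat.card {a : A // a ≠ 1} = 3 := by
    rw [Nat.card_eq_fintype_card, Fintype.card_subtype_compl, Fintype.card_subtype_eq,
      ← Nat.card_eq_fintype_card, hk]; norm_num
  -- orbit lengths are one, two or three, and three is excluded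
  have horb : ∀ x : {a : A // a ≠ 1}, Nat.card (MulAction.orbit (normalizer (A : Set G)) x) = 2 := by
    intro x
    have hle : Nat.card (MulAction.orbit (normalizer (A : Set G)) x) ≤ 3 :=
      hc3 ▸ Finite.card_subtype_le _
    have hdvd : Nat.card (MulAction.orbit (normalizer (A : Set G)) x) ∣ Nat.card G := by
      rw [← Nat.card_congr (MulAction.orbitEquivQuotientStabilizer _ x).symm]
      exact (card_quotient_dvd_card _).trans (card_subgroup_dvd_card _)
    have hpos : 0 < Nat.card (MulAction.orbit (normalizer (A : Set G)) x) :=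
      haveI : Nonempty (MulAction.orbit (normalizer (A : Set G)) x) := ⟨⟨x, MulAction.mem_orbit_self x⟩⟩
      Nat.card_pos
    have h1 : Nat.card (MulAction.orbit (normalizer (A : Set G)) x) ≠ 1 := by
      intro e
      refine hfix x.1 x.1.2 (fun e' => x.2 (Subtype.ext e')) fun g hg => ?_
      haveI := (Nat.card_eq_one_iff_unique.mp e).1
      have h2 : (⟨(⟨g, hg⟩ : normalizer (A : Set G)) • x, MulAction.mem_orbit _ _⟩ :
          MulAction.orbit (normalizer (A : Set G)) x) = ⟨x, MulAction.mem_orbit_self x⟩ :=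
        Subsingleton.elim _ _
      exact congrArg (fun y => ((y.1.1 : A) : G)) h2
    have h3 : Nat.card (MulAction.orbit (normalizer (A : Set G)) x) ≠ 3 := fun e =>
      h.three (e ▸ hdvd)
    omega
  -- three is not a sum of twos
  have hsum := Nat.card_congr (MulAction.selfEquivSigmaOrbits (normalizer (A : Set G)) {a : A // a ≠ 1})
  rw [hc3, Nat.card_sigma] at hsum
  haveI : Fintype (Quotient (MulAction.orbitRel (normalizer (A : Set G)) {a : A // a ≠ 1})) := Fintype.ofFinite _
  simp only [horb, Finset.sum_const, Finset.card_univ, smul_eq_mul] at hsum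
  omega

/-- B: the setting. -/
theorem setupStep_of_cores (hcores : ∀ (G : Type u) [Group G] [Finite G], Hyp G → CoreFacts G) :
    SetupStep.{u} := by
  intro G _ _ h
  classical
  haveI := h.simple
  have S : Sylow 2 G := Classical.choice inferInstance
  set A0 := (normalClosure (((Cfsg.omegaOne 2 ((S : Subgroup G) ⊓
      centralizer ((S : Subgroup G) : Set G))).subgroupOf
      (normalizer (Cfsg.thompsonSubgroupOf 2 (S : Subgroup G) : Set G)) :
        Subgroup ↥(normalizer (Cfsg.thompsonSubgroupOf 2 (S : Subgroup G) : Set G))) :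
      Set ↥(normalizer (Cfsg.thompsonSubgroupOf 2 (S : Subgroup G) : Set G)))).map
      (normalizer (Cfsg.thompsonSubgroupOf 2 (S : Subgroup G) : Set G)).subtype with hA0
  obtain ⟨hle, hel, hsc, hctl⟩ := Cfsg.Agent.S2796.result
    (h.not_involves (K := Equiv.Perm (Fin 4)) (by rw [Nat.card_perm, Nat.card_fin]; decide))
    (fun K R hR hcon => @Hyp.hsec G _ _ h K R hR hcon) S _ rfl A0 rfl
  have hcl0 : ∀ (g : G), ∀ b ∈ A0, g * b * g⁻¹ ∈ (S : Subgroup G) → g * b * g⁻¹ ∈ A0 :=
    fun g b hb hg => hsc.2 b hb g hg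
  have hA0ne : A0 ≠ ⊥ := by
    intro e
    have hz := CfsgLib.LocalEven.Factor.zS_ne_bot S.isPGroup' (sylow_ne_bot h S)
    refine hz (le_bot_iff.mp fun z hz' => ?_)
    rw [← e, hA0]
    have hzJ : z ∈ normalizer (Cfsg.thompsonSubgroupOf 2 (S : Subgroup G) : Set G) := by
      have hzS : z ∈ (S : Subgroup G) :=
        (CfsgLib.PGroups.omegaOne_le (p := 2) _ hz').1
      exact (CfsgLib.LocalEven.Factor.normalizer_je _) (le_normalizer hzS)
    exact ⟨⟨z, hzJ⟩, subset_normalClosure (mem_subgroupOf.mpr hz'), rfl⟩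
  -- a minimal invariant subgroup
  obtain ⟨A, hA, hmin⟩ := (Set.toFinite {B : Subgroup G | B ≤ A0 ∧ B ≠ ⊥ ∧
      ∀ g ∈ normalizer (A0 : Set G), ∀ b ∈ B, g * b * g⁻¹ ∈ B}).exists_minimal
    ⟨A0, le_rfl, hA0ne, fun g hg b hb => (mem_normalizer_iff.mp hg b).mp hb⟩
  obtain ⟨hA0', hAne, hAinv⟩ := hA
  have hctrl0 := ctrl_of_controls hcl0 hle hctl
  have hcl : ∀ (g : G), ∀ b ∈ A, g * b * g⁻¹ ∈ (S : Subgroup G) → g * b * g⁻¹ ∈ A := by
    intro g b hb hg
    obtain ⟨m, hm, hme⟩ := hctrl0 b (hle (hA0' hb)) g hg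
    exact hme ▸ hAinv m hm b hb
  have hNN : normalizer (A0 : Set G) ≤ normalizer (A : Set G) := fun g hg =>
    mem_normalizer_iff_map_conj_eq.2 (eq_of_le_of_card_ge
      (by rintro _ ⟨b, hb, rfl⟩; exact hAinv g hg b hb)
      (card_map_of_injective (MulAut.conj g).injective).ge)
  have helA : Cfsg.IsElementaryAbelian 2 A := elementary_of_le hel hA0'
  have hirr : ∀ B ≤ A, B ≠ ⊥ → (∀ g ∈ normalizer (A : Set G), ∀ b ∈ B, g * b * g⁻¹ ∈ B) → B = A :=
    fun B hBA hB hBinv => le_antisymm hBA (hmin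
      ⟨hBA.trans hA0', hB, fun g hg b hb => hBinv g (hNN hg) b hb⟩ hBA)
  refine ⟨S, A, h, hA0'.trans hle, helA, ?_, ⟨hA0'.trans hle, fun x hx g hg => hcl g x hx hg⟩,
    fun x hx g hg => ?_, hcores G h, hirr⟩
  · obtain ⟨k, hk⟩ := (elementary_isPGroup helA).exists_card_eq
    rcases k with _ | _ | _ | k
    · exact absurd (eq_bot_of_card_eq _ hk) hAne
    · exfalso
      obtain ⟨⟨a, ha⟩, ha1, -⟩ := (Nat.card_eq_two_iff' (1 : A)).mp (by simpa using hk)
      have ha1' : a ≠ 1 := fun e => ha1 (Subtype.ext e)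
      have hao : orderOf a = 2 := elementary_orderOf helA ha ha1'
      have hz := CfsgLib.ZStar.mem_oddCore_of_isolated
        (isolated_of_card_two (hA0'.trans hle) hcl (by simpa using hk) ha ha1' hao)
      have hcen : a ∈ center G := mem_center_iff.mpr fun g => by
        have h1 := hz g
        rw [h.oddCore_eq_bot, mem_bot, mul_inv_eq_one, mul_inv_eq_iff_eq_mul] at h1
        exact h1.symm
      rcases IsSimpleGroup.eq_bot_or_eq_top_of_normal (center G) inferInstance with e | e
      · rw [e] at hcen; exact ha1' (mem_bot.mp hcen)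
      · exact h.nonab ⟨⟨fun x y => (mem_center_iff.mp (e.ge (mem_top y)) x)⟩⟩
    · exfalso
      -- order four: the normalizer fixes an element or has order divisible by three
      set N := normalizer (A : Set G) with hNdef
      have hfix : ∀ a ∈ A, a ≠ 1 → (∀ g ∈ N, g * a * g⁻¹ = a) → False := by
        intro a ha ha1 hfa
        have hz : zpowers a ≤ A := zpowers_le.mpr ha
        have heq := hirr (zpowers a) hz (by simpa using ha1) (fun g hg b hb => by
          obtain ⟨j, rfl⟩ := mem_zpowers_iff.mp hb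
          rw [← conj_zpow, hfa g hg]
          exact ⟨j, rfl⟩)
        have hc : Nat.card (zpowers a) = 2 := by
          rw [Nat.card_zpowers, elementary_orderOf helA ha ha1]
        rw [heq, hk] at hc
        norm_num at hc
      exact three_orbit_false h helA hk hfix
    · rw [hk, pow_succ, pow_succ, pow_succ]
      have : 1 ≤ 2 ^ k := Nat.one_le_two_pow
      omega
  · obtain ⟨m, hm, hme⟩ := hctrl0 x hx g hg
    exact ⟨m, hNN hm, hme⟩

end CfsgLib.ThreePrime
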