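import Cfsg.Agent.Lib.ThreePrime.Induction
import Cfsg.Agent.Lib.ThreePrime.Sz.Balance

/-!
Owner: helper8. A counterexample of least order has a setting.
-/

set_option autoImplicit false

namespace CfsgLib.ThreePrime

universe u

/-- B. -/
theorem setupStep_result : SetupStep.{u} :=
  setupStep fun X _ _ h => Sz.isLocallyBalanced X h

end CfsgLib.ThreePrime
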