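import Cfsg.Agent.Lib.ThreePrime.Induction
import Cfsg.Agent.Lib.Lie.Suzuki.SubgroupClass
import Cfsg.Agent.Lib.Components.FStar
import Cfsg.Agent.Lib.Core.HallHigman
import Cfsg.Agent.Lib.Core.SolvableStruct
import Cfsg.Agent.Lib.Core.FPFSymThreeBasic
import Cfsg.Agent.Lib.PGroups.Basic

/-!
Owner: helper8. Groups of order prime to three with an automorphism of order three whose fixed
points have odd order, and fixed-point-free actions of the symmetric group of degree three, given
that the simple groups of order prime to three are Suzuki groups.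
-/

set_option autoImplicit false
set_option linter.style.haveILetI false
set_option linter.unusedSectionVars false

namespace CfsgLib.ThreePrime

open Subgroup

universe u

local instance factTwoSym : Fact (Nat.Prime 2) := ⟨Nat.prime_two⟩

local instance factThreeSym : Fact (Nat.Prime 3) := ⟨Nat.prime_three⟩

/-- In a Suzuki group any two involutions are conjugate. -/
theorem isConj_involutions {L : Type*} [Group L] (h : Cfsg.Lie.IsoSuzuki L) {x y : L}
    (hx : x ^ 2 = 1) (hx1 : x ≠ 1) (hy : y ^ 2 = 1) (hy1 : y ≠ 1) : IsConj x y := by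
  obtain ⟨F, _, _, m, hm, hF, ⟨e⟩⟩ := h
  haveI : CharP F 2 := CfsgLib.Lie.Suzuki.charTwo_of_card hF
  let f : L ≃* Cfsg.Sz F m := e.trans (CfsgLib.Lie.Suzuki.equivLie hm hF).symm
  have hns : ¬ Group.IsSolvable (⊤ : Subgroup (Cfsg.Sz F m)) := fun hs =>
    CfsgLib.Lie.Suzuki.not_isSolvable_group hF hm
      (haveI := hs
       Group.isSolvable_of_surjective (f := (Subgroup.topEquiv (G := Cfsg.Sz F m)).toMonoidHom)
        (MulEquiv.surjective _))
  have key : ∀ z : L, z ^ 2 = 1 → z ≠ 1 → IsConj (CfsgLib.Lie.Suzuki.uS hF 0 1) (f z) := by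
    intro z hz hz1
    obtain ⟨g, -, hg⟩ := CfsgLib.Lie.Suzuki.isConj_involution hF hm hns (mem_top _) (mem_top (f z))
      (by rw [← map_pow, hz, map_one]) (by simpa using hz1)
    exact isConj_iff.mpr ⟨g, hg⟩
  have h1 := f.symm.toMonoidHom.map_isConj ((key x hx hx1).symm.trans (key y hy hy1))
  simpa using h1

variable {X : Type u} [Group X] [Finite X]

/-- The fixed points of `θ` contain no involution. -/
def OddFix (θ : MulAut X) : Prop :=
  ∀ x : X, θ x = x → x * x = 1 → x = 1

theorem three_apply {θ : MulAut X} (hθ : θ ^ 3 = 1) (x : X) : θ (θ (θ x)) = x := by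
  have h := DFunLike.congr_fun hθ x
  simpa [pow_succ] using h

theorem map_eq_of_invariant {θ : MulAut X} {N : Subgroup X} (hN : ∀ n ∈ N, θ n ∈ N) :
    N.map θ.toMonoidHom = N :=
  eq_of_le_of_card_ge (by rintro _ ⟨n, hn, rfl⟩; exact hN n hn)
    (card_map_of_injective θ.injective).ge

/-- A coprime coset fixed by an automorphism of order three contains a fixed element. -/
theorem exists_fixed_lift {θ : MulAut X} (hθ : θ ^ 3 = 1) (N : Subgroup X)
    (hN : ∀ n ∈ N, θ n ∈ N) (hN3 : ¬ 3 ∣ Nat.card N) (hs : Group.IsSolvable N) {x : X}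
    (hx : x⁻¹ * θ x ∈ N) : ∃ n ∈ N, θ (x * n) = x * n := by
  haveI : Finite (MulAut X) := Finite.of_injective _ MulEquiv.toEquiv_injective
  have hpow : ∀ k : ℕ, (∀ n ∈ N, (θ ^ k) n ∈ N) ∧ x⁻¹ * (θ ^ k) x ∈ N := by
    intro k
    induction k with
    | zero => simp
    | succ k ih =>
      refine ⟨fun n hn => by rw [pow_succ', MulAut.mul_apply]; exact hN _ (ih.1 n hn), ?_⟩
      rw [pow_succ', MulAut.mul_apply]
      have h := mul_mem hx (hN _ ih.2)
      simpa [mul_assoc] using h
  have hmem : ∀ g : zpowers θ, ∃ k : ℕ, θ ^ k = (g : MulAut X) := fun g =>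
    mem_powers_iff_mem_zpowers.mpr g.2
  have hcop : (Nat.card (zpowers θ)).Coprime (Nat.card N) := by
    rw [Nat.card_zpowers]
    exact ((Nat.Prime.coprime_iff_not_dvd Nat.prime_three).mpr hN3).coprime_dvd_left
      (orderOf_dvd_of_pow_eq_one hθ)
  obtain ⟨n, hn, hfix⟩ := CfsgLib.Core.FPFSymThree.exists_fixed_in_coset (zpowers θ).subtype N
    (fun g n hn => by
      obtain ⟨k, hk⟩ := hmem g
      rw [Subgroup.coe_subtype, ← hk]
      exact (hpow k).1 n hn) hcop hs x
    (fun g => by
      obtain ⟨k, hk⟩ := hmem g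
      rw [Subgroup.coe_subtype, ← hk]
      exact (hpow k).2)
  exact ⟨n, hn, hfix ⟨θ, mem_zpowers θ⟩⟩

/-- An element of order two modulo `N` is not fixed. -/
theorem OddFix.mem_of_fixed {θ : MulAut X} (ho : OddFix θ) (hθ : θ ^ 3 = 1) (N : Subgroup X)
    [N.Normal] (hN : ∀ n ∈ N, θ n ∈ N) (hN3 : ¬ 3 ∣ Nat.card N) (hs : Group.IsSolvable N) {x : X}
    (hx : x⁻¹ * θ x ∈ N) (h2 : x * x ∈ N) : x ∈ N := by
  obtain ⟨n, hn, hfix⟩ := exists_fixed_lift hθ N hN hN3 hs hx
  by_contra hxN
  have hy : (QuotientGroup.mk' N) (x * n) = QuotientGroup.mk' N x := by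
    rw [map_mul, show QuotientGroup.mk' N n = 1 from (QuotientGroup.eq_one_iff n).mpr hn, mul_one]
  have ho2 : orderOf (QuotientGroup.mk' N x) = 2 := by
    refine orderOf_eq_prime ?_ fun e => hxN ((QuotientGroup.eq_one_iff x).mp e)
    rw [pow_two, ← map_mul]
    exact (QuotientGroup.eq_one_iff _).mpr h2
  have hdvd : 2 ∣ orderOf (x * n) := ho2 ▸ hy ▸ orderOf_map_dvd (QuotientGroup.mk' N) (x * n)
  obtain ⟨k, hk⟩ := hdvd
  have hkpos : 0 < k := by
    rcases Nat.eq_zero_or_pos k with rfl | h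
    · exact absurd hk (orderOf_pos (x * n)).ne'
    · exact h
  have h1 := ho ((x * n) ^ k) (by rw [map_pow, hfix])
    (by rw [← pow_add, ← two_mul, ← hk, pow_orderOf_eq_one])
  have := Nat.le_of_dvd hkpos (orderOf_dvd_of_pow_eq_one h1)
  omega

/-- The induced automorphism. -/
noncomputable def quotAut (θ : MulAut X) (N : Subgroup X) [N.Normal] (hN : ∀ n ∈ N, θ n ∈ N) :
    MulAut (X ⧸ N) :=
  QuotientGroup.congr N N θ (map_eq_of_invariant hN)

theorem quotAut_mk (θ : MulAut X) (N : Subgroup X) [N.Normal] (hN : ∀ n ∈ N, θ n ∈ N) (x : X) :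
    quotAut θ N hN (x : X ⧸ N) = ((θ x : X) : X ⧸ N) := rfl

theorem quotAut_pow_three {θ : MulAut X} (hθ : θ ^ 3 = 1) (N : Subgroup X) [N.Normal]
    (hN : ∀ n ∈ N, θ n ∈ N) : quotAut θ N hN ^ 3 = 1 := by
  refine MulEquiv.ext fun y => ?_
  obtain ⟨x, rfl⟩ := QuotientGroup.mk_surjective y
  simp only [pow_succ, pow_zero, one_mul, MulAut.mul_apply, MulAut.one_apply, quotAut_mk,
    three_apply hθ]

theorem OddFix.quot {θ : MulAut X} (ho : OddFix θ) (hθ : θ ^ 3 = 1) (N : Subgroup X) [N.Normal]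
    (hN : ∀ n ∈ N, θ n ∈ N) (hN3 : ¬ 3 ∣ Nat.card N) (hs : Group.IsSolvable N) :
    OddFix (quotAut θ N hN) := by
  intro y hy hy2
  obtain ⟨x, rfl⟩ := QuotientGroup.mk_surjective y
  rw [quotAut_mk] at hy
  refine (QuotientGroup.eq_one_iff x).mpr (ho.mem_of_fixed hθ N hN hN3 hs
    (QuotientGroup.eq.mp hy.symm) ((QuotientGroup.eq_one_iff _).mp (by simpa using hy2)))

/-- A group of order prime to three without fixed involutions is solvable. -/
theorem isSolvable_of_oddFix (hgoal : Goal.{u}) (h3 : ¬ 3 ∣ Nat.card X) (θ : MulAut X)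
    (hθ : θ ^ 3 = 1) (ho : OddFix θ) : Group.IsSolvable X := by
  classical
  set R := CfsgLib.Components.solRadical X with hR
  haveI : R.Normal := CfsgLib.Components.solRadical_normal
  haveI : Group.IsSolvable R := CfsgLib.Components.solRadical_isSolvable
  have hR3 : ¬ 3 ∣ Nat.card R := fun h => h3 (h.trans (card_subgroup_dvd_card R))
  haveI : R.Characteristic := CfsgLib.Components.solRadical_characteristic
  have hinv : ∀ n ∈ R, θ n ∈ R := fun n hn =>
    (characteristic_iff_map_eq.mp inferInstance θ).le (mem_map_of_mem θ.toMonoidHom hn)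
  have hoq := ho.quot hθ R hinv hR3 inferInstance
  have hq3 := quotAut_pow_three hθ R hinv
  have h3q : ¬ 3 ∣ Nat.card (X ⧸ R) := fun h => h3 (h.trans (card_quotient_dvd_card R))
  generalize quotAut θ R hinv = φ at hoq hq3
  by_cases htriv : Subsingleton (X ⧸ R)
  · have hRtop : R = ⊤ := QuotientGroup.subsingleton_iff.mp htriv
    exact Group.isSolvable_of_surjective (f := R.subtype) (fun x => ⟨⟨x, hRtop ▸ mem_top x⟩, rfl⟩)
  exfalso
  haveI : Nontrivial (X ⧸ R) := not_subsingleton_iff_nontrivial.mp htriv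
  obtain ⟨M, hMn, hM1, hmin⟩ := CfsgLib.Components.exists_minimal_normal (G := X ⧸ R)
  haveI := hMn
  have hrad : ∀ A : Subgroup (X ⧸ R), A.Normal → Group.IsSolvable A → A = ⊥ := by
    intro A hA hAs
    haveI := hA
    have hle' : R ≤ A.comap (QuotientGroup.mk' R) := fun a ha => by
      rw [mem_comap, show QuotientGroup.mk' R a = 1 from (QuotientGroup.eq_one_iff a).mpr ha]
      exact one_mem A
    haveI := hAs
    have hsol : Group.IsSolvable (A.comap (QuotientGroup.mk' R)) :=
      Group.isSolvable_of_ker_le_range (inclusion hle')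
        (((QuotientGroup.mk' R).comp (A.comap (QuotientGroup.mk' R)).subtype).codRestrict A
          fun a => a.2)
        (fun a ha => ⟨⟨a.1, (QuotientGroup.eq_one_iff a.1).mp (congrArg Subtype.val ha)⟩, rfl⟩)
    have hle := CfsgLib.Components.le_solRadical (Subgroup.Normal.comap hA (QuotientGroup.mk' R)) hsol
    rw [← map_comap_eq_self_of_surjective (QuotientGroup.mk'_surjective R) A, Subgroup.map_eq_bot_iff,
      QuotientGroup.ker_mk']
    exact hle
  have hna : ⁅M, M⁆ ≠ ⊥ := fun e => hM1 (hrad M hMn (by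
    haveI : IsMulCommutative M := Subgroup.le_centralizer_iff_isMulCommutative.mp
      (commutator_eq_bot_iff_le_centralizer.mp e)
    exact Group.isSolvable_of_comm fun a b => IsMulCommutative.is_comm.comm a b))
  obtain ⟨hsup, hsimp⟩ := CfsgLib.Components.minimal_normal_eq_sSup_components hMn hmin hna
  obtain ⟨L, hL, hLM⟩ : ∃ L : Subgroup (X ⧸ R), Cfsg.IsComponent L ∧ L ≤ M := by
    by_contra hno
    push Not at hno
    refine hM1 (le_bot_iff.mp (hsup.le.trans (sSup_le ?_)))
    rintro L ⟨hL, hLM⟩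
    exact absurd hLM (hno L hL)
  obtain ⟨hLs, hLn⟩ := hsimp L hL hLM
  have hL3 : ¬ 3 ∣ Nat.card L := fun h => h3q (h.trans (card_subgroup_dvd_card L))
  have hLsz := hgoal L hLs hLn hL3
  have hLeven : 2 ∣ Nat.card L := by
    by_contra hodd
    haveI := Cfsg.Agent.S0205.result (Nat.odd_iff.mpr (Nat.two_dvd_ne_zero.mp hodd) : Odd (Nat.card L))
    haveI := hLs
    exact hLn ⟨⟨IsSimpleGroup.comm_iff_isSolvable.mpr inferInstance⟩⟩
  obtain ⟨⟨x, hxL⟩, hxo⟩ := exists_prime_orderOf_dvd_card' 2 hLeven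
  have hx2 : x * x = 1 := by
    have h := pow_orderOf_eq_one (⟨x, hxL⟩ : L)
    rw [hxo, pow_two] at h
    exact congrArg Subtype.val h
  have hx1 : x ≠ 1 := fun e => by
    have : (⟨x, hxL⟩ : L) = 1 := Subtype.ext e
    rw [this, orderOf_one] at hxo
    omega
  by_cases hfix : L.map φ.toMonoidHom = L
  · -- a fixed component has a fixed involution
    let I : Type u := {z : X ⧸ R // z ∈ L ∧ z * z = 1 ∧ z ≠ 1}
    have hmemL : ∀ z ∈ L, φ z ∈ L := fun z hz => hfix.le (mem_map_of_mem φ.toMonoidHom hz)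
    let f : I → I := fun z => ⟨φ z.1, hmemL _ z.2.1, by rw [← map_mul, z.2.2.1, map_one],
      fun e => z.2.2.2 (φ.injective (e.trans (map_one φ).symm))⟩
    have hf : Function.Bijective f := Finite.injective_iff_bijective.mp fun a b hab =>
      Subtype.ext (φ.injective (congrArg Subtype.val hab))
    haveI : Fintype I := Fintype.ofFinite I
    have hI : ¬ 3 ∣ Fintype.card I := by
      intro h
      refine hL3 (h.trans ?_)
      rw [← Nat.card_eq_fintype_card]
      have hcard : Nat.card I = Nat.card (MulAction.orbit (ConjAct L) (⟨x, hxL⟩ : L)) := by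
        refine Nat.card_congr ⟨fun z => ⟨⟨z.1, z.2.1⟩, ?_⟩, fun w => ⟨(w.1 : X ⧸ R), w.1.2, ?_, ?_⟩,
          fun z => rfl, fun w => rfl⟩
        · exact ConjAct.mem_orbit_conjAct.mpr (isConj_involutions hLsz
            (Subtype.ext (by simpa [pow_two] using z.2.2.1))
            (fun e => z.2.2.2 (congrArg Subtype.val e))
            (Subtype.ext (by simpa [pow_two] using hx2)) (fun e => hx1 (congrArg Subtype.val e)))
        · obtain ⟨c, hc⟩ := isConj_iff.mp (ConjAct.mem_orbit_conjAct.mp w.2).symm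
          rw [← hc]
          simp [mul_assoc, ← mul_assoc x x, hx2]
        · intro e
          have h1 : w.1 = 1 := Subtype.ext e
          have h2 := ConjAct.mem_orbit_conjAct.mp w.2
          rw [h1] at h2
          exact hx1 (congrArg Subtype.val (isConj_one_right.mp h2))
      rw [hcard, Nat.card_congr (MulAction.orbitEquivQuotientStabilizer (ConjAct L) _)]
      exact (card_quotient_dvd_card _).trans (Nat.card_congr ConjAct.toConjAct.symm.toEquiv).dvd
    have hperm : (Equiv.ofBijective f hf) ^ 3 ^ 1 = 1 := by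
      refine Equiv.ext fun z => Subtype.ext ?_
      simp only [pow_one, pow_succ, pow_zero, one_mul, Equiv.Perm.mul_apply, Equiv.Perm.one_apply]
      exact three_apply hq3 z.1
    obtain ⟨z, hz⟩ := Equiv.Perm.exists_fixed_point_of_prime hI hperm
    exact z.2.2.2 (hoq z.1 (congrArg Subtype.val hz) z.2.2.1)
  · -- a moved component gives a fixed diagonal involution
    set L1 := L.map φ.toMonoidHom with hL1
    set L2 := L1.map φ.toMonoidHom with hL2
    have hc1 : Cfsg.IsComponent L1 := CfsgLib.Components.isComponent_map_equiv φ hL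
    have hc2 : Cfsg.IsComponent L2 := CfsgLib.Components.isComponent_map_equiv φ hc1
    have hne2 : L2 ≠ L := by
      intro e
      apply hfix
      calc L1 = L2.map φ.toMonoidHom := by rw [e]
        _ = L := by
          ext y
          constructor
          · rintro ⟨_, ⟨_, ⟨w, hw, rfl⟩, rfl⟩, rfl⟩
            show φ (φ (φ w)) ∈ L
            rw [three_apply hq3]
            exact hw
          · exact fun hy => ⟨φ (φ y), mem_map_of_mem _ (mem_map_of_mem _ hy), three_apply hq3 y⟩
    have hne12 : L1 ≠ L2 := fun e => hfix (map_injective φ.injective e).symm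
    have hcom : ∀ {A B : Subgroup (X ⧸ R)}, Cfsg.IsComponent A → Cfsg.IsComponent B → A ≠ B →
        ∀ a ∈ A, ∀ b ∈ B, Commute a b := fun hA hB hAB a ha b hb =>
      commutatorElement_eq_one_iff_mul_comm.mp (mem_bot.mp
        ((CfsgLib.Components.components_commute hA hB hAB).le (commutator_mem_commutator ha hb)))
    have h1m : φ x ∈ L1 := mem_map_of_mem φ.toMonoidHom hxL
    have h2m : φ (φ x) ∈ L2 := mem_map_of_mem φ.toMonoidHom h1m
    have c01 := hcom hL hc1 (Ne.symm hfix) x hxL _ h1m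
    have c02 := hcom hL hc2 hne2.symm x hxL _ h2m
    have c12 := hcom hc1 hc2 hne12 _ h1m _ h2m
    set y := x * φ x * φ (φ x) with hy
    have hyfix : φ y = y := by
      rw [hy, map_mul, map_mul, three_apply hq3]
      exact (c02.mul_right c01 |> fun _ => ((c01.mul_right c02).symm.eq).trans (mul_assoc _ _ _).symm)
    have hy2 : y * y = 1 := by
      have e1 : φ x * φ x = 1 := by rw [← map_mul, hx2, map_one]
      have e2 : φ (φ x) * φ (φ x) = 1 := by rw [← map_mul, e1, map_one]
      have hc : Commute (x * φ x) (φ (φ x)) := c02.mul_left c12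
      rw [← pow_two, hy, hc.mul_pow, c01.mul_pow, pow_two, pow_two, pow_two, hx2, e1, e2, one_mul,
        one_mul]
    have hy1 := hoq y hyfix hy2
    refine hLn ?_
    haveI := hLs
    have hxc : (⟨x, hxL⟩ : L) ∈ center L := mem_center_iff.mpr fun w => Subtype.ext (by
      have h1 : x = (φ x * φ (φ x))⁻¹ := eq_inv_of_mul_eq_one_left (by rw [← mul_assoc]; exact hy1)
      have hw1 := hcom hL hc1 (Ne.symm hfix) _ w.2 _ h1m
      have hw2 := hcom hL hc2 hne2.symm _ w.2 _ h2m
      show (w : X ⧸ R) * x = x * w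
      rw [h1]
      exact (hw1.mul_right hw2).inv_right.eq)
    rcases IsSimpleGroup.eq_bot_or_eq_top_of_normal (center L) inferInstance with e | e
    · rw [e] at hxc; exact absurd (congrArg Subtype.val (mem_bot.mp hxc)) hx1
    · exact ⟨⟨fun a b => mem_center_iff.mp (e.ge (mem_top b)) a⟩⟩

set_option maxHeartbeats 1600000 in
/-- Modulo `O₂` an automorphism of order three without fixed involutions is trivial. -/
theorem trivial_mod_pCore [Group.IsSolvable X] (h3 : ¬ 3 ∣ Nat.card X)
    (hO : Cfsg.pPrimeCore 2 X = ⊥) (θ : MulAut X) (hθ : θ ^ 3 = 1) (ho : OddFix θ) :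
    ∀ x : X, x⁻¹ * θ x ∈ Cfsg.pCore 2 X := by
  classical
  set R := Cfsg.pCore 2 X with hR
  haveI : R.Characteristic := CfsgLib.Components.pCore_characteristic 2
  have hRp : IsPGroup 2 R := CfsgLib.Core.isPGroup_pCore 2 X
  set Φ := (frattini R).map R.subtype with hΦ
  haveI : Φ.Normal := ConjAct.normal_of_characteristic_of_normal
  have hΦR : Φ ≤ R := map_subtype_le _
  have hRθ : ∀ r ∈ R, θ r ∈ R := fun r hr =>
    (characteristic_iff_map_eq.mp inferInstance θ).le (mem_map_of_mem θ.toMonoidHom hr)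
  have hΦθ : ∀ r ∈ Φ, θ r ∈ Φ := by
    rintro _ ⟨r, hr, rfl⟩
    let θR : MulAut R := (θ.subgroupMap R).trans (MulEquiv.subgroupCongr (map_eq_of_invariant hRθ))
    exact ⟨θR r, (characteristic_iff_map_eq.mp frattini_characteristic θR).le
      (mem_map_of_mem θR.toMonoidHom hr), rfl⟩
  have h3R : ¬ 3 ∣ Nat.card R := fun h => h3 (h.trans (card_subgroup_dvd_card R))
  have hΦp : IsPGroup 2 Φ := hRp.to_le hΦR
  have hΦs : Group.IsSolvable Φ := by haveI := hΦp.isNilpotent; infer_instance
  -- the quotient by the Frattini subgroup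
  set ψ := QuotientGroup.mk' Φ with hψ
  set φ := quotAut θ Φ hΦθ with hφ
  have hoφ := ho.quot hθ Φ hΦθ (fun h => h3 (h.trans (card_subgroup_dvd_card Φ))) hΦs
  set V := R.map ψ with hV
  haveI : V.Normal := Subgroup.Normal.map inferInstance ψ (QuotientGroup.mk'_surjective Φ)
  have hVR : V.comap ψ = R := comap_map_eq_self (by rw [QuotientGroup.ker_mk']; exact hΦR)
  obtain ⟨hab, hexp⟩ := CfsgLib.PGroups.frattini_quotient hRp
  haveI : IsMulCommutative V := ⟨⟨by
    rintro ⟨_, a, ha, rfl⟩ ⟨_, b, hb, rfl⟩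
    refine Subtype.ext ?_
    show ψ a * ψ b = ψ b * ψ a
    rw [← map_mul, ← map_mul]
    refine QuotientGroup.eq.mpr ?_
    have h := QuotientGroup.eq.mp (hab.is_comm.comm ((⟨a, ha⟩ : R) : R ⧸ frattini R)
      ((⟨b, hb⟩ : R) : R ⧸ frattini R))
    exact ⟨_, h, rfl⟩⟩⟩
  have hV2 : ∀ v ∈ V, v * v = 1 := by
    rintro _ ⟨a, ha, rfl⟩
    rw [← map_mul]
    refine (QuotientGroup.eq_one_iff _).mpr ⟨⟨a, ha⟩ * ⟨a, ha⟩, ?_, rfl⟩
    rw [SetLike.mem_coe, ← QuotientGroup.eq_one_iff, QuotientGroup.mk_mul, ← pow_two]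
    exact hexp _
  have hCV : centralizer (V : Set (X ⧸ Φ)) ≤ V := by
    set N := (centralizer (V : Set (X ⧸ Φ))).comap ψ with hN
    have hNp : IsPGroup 2 N := by
      refine IsPGroup.of_card (n := (Nat.card N).primeFactorsList.length) ?_
      refine Nat.eq_prime_pow_of_unique_prime_dvd Nat.card_pos.ne' fun {p} hp hdvd => ?_
      by_contra hp2
      haveI := Fact.mk hp
      obtain ⟨⟨a, ha⟩, hao⟩ := exists_prime_orderOf_dvd_card' p hdvd
      rw [orderOf_mk] at hao
      have hle : zpowers a ≤ centralizer (R : Set X) := by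
        refine CfsgLib.Core.centralizes_of_centralizes_frattini_quotient le_normalizer_of_normal ?_ ?_
        · obtain ⟨k, hk⟩ := (hRp.to_subgroup (frattini R)).exists_card_eq
          rw [Nat.card_zpowers, hao, hk]
          exact Nat.Coprime.pow_right _ ((Nat.coprime_primes hp Nat.prime_two).mpr hp2)
        · intro b hb r hr
          have hbN : b ∈ N := zpowers_le.mpr ha hb
          have h1 := mem_centralizer_iff.mp hbN (ψ r) (mem_map_of_mem ψ hr)
          rw [← hΦ, ← QuotientGroup.eq_one_iff]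
          show ψ (b * r * b⁻¹ * r⁻¹) = 1
          simp only [map_mul, map_inv, ← h1]
          group
      have haR := CfsgLib.Core.centralizer_pCore_le_of_pPrimeCore_eq_bot hO (hle (mem_zpowers a))
      obtain ⟨k, hk⟩ := IsPGroup.iff_orderOf.mp hRp ⟨a, haR⟩
      rw [orderOf_mk, hao] at hk
      exact hp2 ((Nat.prime_dvd_prime_iff_eq hp Nat.prime_two).mp (hp.dvd_of_dvd_pow hk.dvd))
    haveI : N.Normal := Subgroup.Normal.comap inferInstance ψ
    intro v hv
    obtain ⟨a, rfl⟩ := QuotientGroup.mk'_surjective Φ v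
    exact mem_map_of_mem ψ (CfsgLib.Core.le_pCore hNp (show a ∈ N from hv))
  -- the module
  letI : CommGroup V :=
    { (inferInstance : Group V) with mul_comm := fun a b => IsMulCommutative.is_comm.comm a b }
  have hVφ : ∀ v ∈ V, φ v ∈ V := by
    rintro _ ⟨a, ha, rfl⟩
    exact ⟨θ a, hRθ a ha, rfl⟩
  let act : ((X ⧸ Φ) ⧸ V) →* AddMonoid.End (Additive V) :=
    { toFun := fun k => MonoidHom.toAdditive
        ((QuotientGroup.lift V (MulAut.conjNormal (H := V)) (fun v hv => MulEquiv.ext fun w =>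
          Subtype.ext (by
            simp only [MulAut.conjNormal_apply, MulAut.one_apply]
            rw [show v * (w : X ⧸ Φ) = w * v from
              congrArg Subtype.val (IsMulCommutative.is_comm.comm (⟨v, hv⟩ : V) w),
              mul_inv_cancel_right])) k).toMonoidHom)
      map_one' := by ext m; simp only [map_one]; rfl
      map_mul' := fun a b => by ext m; simp only [map_mul]; rfl }
  have hact : ∀ (a : X ⧸ Φ) (v : V),
      ((Additive.toMul (act (a : (X ⧸ Φ) ⧸ V) (Additive.ofMul v)) : V) : X ⧸ Φ) = a * v * a⁻¹ :=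
    fun a v => MulAut.conjNormal_apply a v
  let σV : AddMonoid.End (Additive V) := MonoidHom.toAdditive
    ((φ.toMonoidHom.comp V.subtype).codRestrict V fun v => hVφ v v.2)
  have hσ : ∀ v : V, ((Additive.toMul (σV (Additive.ofMul v)) : V) : X ⧸ Φ) = φ v := fun v => rfl
  set K := (X ⧸ Φ) ⧸ V
  set κ := quotAut φ V hVφ with hκ
  have hq3 := quotAut_pow_three hθ Φ hΦθ
  have hκ3 := quotAut_pow_three hq3 V hVφ
  have hK2 : Cfsg.pCore 2 K = ⊥ := by
    haveI : (Cfsg.pCore 2 K).Normal := inferInstance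
    set N := (Cfsg.pCore 2 K).comap ((QuotientGroup.mk' V).comp ψ) with hN
    have hker : ((QuotientGroup.mk' V).comp ψ).ker = R := by
      rw [← MonoidHom.comap_ker, QuotientGroup.ker_mk', hVR]
    have hNp : IsPGroup 2 N := (CfsgLib.Core.isPGroup_pCore 2 K).comap_of_ker_isPGroup _ (hker ▸ hRp)
    have hle : N ≤ R := CfsgLib.Core.le_pCore hNp
    refine le_bot_iff.mp fun k hk => ?_
    obtain ⟨a, rfl⟩ := ((QuotientGroup.mk'_surjective V).comp (QuotientGroup.mk'_surjective Φ)) k
    have : a ∈ ((QuotientGroup.mk' V).comp ψ).ker := hker ▸ hle hk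
    exact mem_bot.mpr this
  set F := Cfsg.fittingSubgroup K with hF
  have hFn : Group.IsNilpotent F := CfsgLib.Components.fitting_isNilpotent
  haveI : F.Characteristic := CfsgLib.Components.fitting_characteristic
  have hFodd : ¬ 2 ∣ Nat.card F := by
    intro h2
    haveI := hFn
    obtain ⟨P⟩ : Nonempty (Sylow 2 F) := inferInstance
    haveI : (P : Subgroup F).Normal := P.normal_of_normalizerCondition Group.normalizerCondition_of_isNilpotent
    haveI : (P : Subgroup F).Characteristic := P.characteristic_of_normal inferInstance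
    haveI : ((P : Subgroup F).map F.subtype).Normal := ConjAct.normal_of_characteristic_of_normal
    have hP := CfsgLib.Core.le_pCore (G := K) (N := (P : Subgroup F).map F.subtype) (P.2.map F.subtype)
    rw [hK2, le_bot_iff, map_eq_bot_iff_of_injective _ F.subtype_injective] at hP
    exact P.ne_bot_of_dvd_card h2 hP
  have hFκ : ∀ y ∈ F, κ y ∈ F := fun y hy =>
    (characteristic_iff_map_eq.mp inferInstance κ).le (mem_map_of_mem κ.toMonoidHom hy)
  have hK3 : ¬ 3 ∣ Nat.card K := fun h =>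
    h3 ((h.trans (card_quotient_dvd_card V)).trans (card_quotient_dvd_card Φ))
  obtain ⟨kV, hkV⟩ := (hRp.map ψ).exists_card_eq
  have hM : Nat.card (Additive V) = 2 ^ kV := (Nat.card_congr Additive.toMul).trans hkV
  have hσ3 : σV ^ 3 = 1 := by
    refine AddMonoidHom.ext fun m => Additive.toMul.injective (Subtype.ext ?_)
    exact three_apply hq3 ((Additive.toMul m : V) : X ⧸ Φ)
  have hcomp : ∀ (y : K) (m : Additive V), σV (act y m) = act (κ y) (σV m) := by
    intro y m
    obtain ⟨a, rfl⟩ := QuotientGroup.mk_surjective y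
    refine Additive.toMul.injective (Subtype.ext ?_)
    have h1 : φ (a * ((Additive.toMul m : V) : X ⧸ Φ) * a⁻¹) =
        φ a * φ ((Additive.toMul m : V) : X ⧸ Φ) * (φ a)⁻¹ := by rw [map_mul, map_mul, map_inv]
    exact h1
  have hfpf : ∀ m : Additive V, σV m = m → m = 0 := fun m hm => by
    have h1 : φ ((Additive.toMul m : V) : X ⧸ Φ) = ((Additive.toMul m : V) : X ⧸ Φ) :=
      congrArg (fun z : Additive V => ((Additive.toMul z : V) : X ⧸ Φ)) hm
    exact Additive.toMul.injective (Subtype.ext (hoφ _ h1 (hV2 _ (Additive.toMul m).2)))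
  have hfixF : ∀ y ∈ F, κ y = y := CfsgLib.Core.HH.fixed_of_fpf_module (q := 3) act κ σV hκ3
    hσ3 hcomp hfpf
    (by rw [hM]; exact Nat.Coprime.pow_left _ (by norm_num)) hFn hFκ
    (((Nat.Prime.coprime_iff_not_dvd Nat.prime_three).mpr fun h =>
      hK3 (h.trans (card_subgroup_dvd_card F))).symm)
    (by rw [hM]; exact Nat.Coprime.pow_left _ ((Nat.Prime.coprime_iff_not_dvd Nat.prime_two).mpr hFodd))
    (fun y _ hy => by
      obtain ⟨a, rfl⟩ := QuotientGroup.mk_surjective y
      refine (QuotientGroup.eq_one_iff a).mpr (hCV (mem_centralizer_iff.mpr fun v hv => ?_))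
      have h1 := (hact a ⟨v, hv⟩).symm.trans
        (congrArg (fun z => ((Additive.toMul z : V) : X ⧸ Φ)) (hy (Additive.ofMul (⟨v, hv⟩ : V))))
      exact (mul_inv_eq_iff_eq_mul.mp h1).symm)
    (fun h => hFodd h.1)
  haveI : Group.IsSolvable K := inferInstance
  have hCF : centralizer (F : Set K) ≤ F := CfsgLib.Components.centralizer_fitting_le_of_isSolvable
  have hall : ∀ k : K, κ k = k := by
    intro k
    have hz : k⁻¹ * κ k ∈ F := hCF (mem_centralizer_iff.mpr fun f hf => by
      have h1 := hfixF (k * f * k⁻¹) (Normal.conj_mem inferInstance f hf k)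
      rw [map_mul, map_mul, map_inv, hfixF f hf] at h1
      calc f * (k⁻¹ * κ k) = k⁻¹ * (k * f * k⁻¹) * κ k := by group
        _ = k⁻¹ * (κ k * f * (κ k)⁻¹) * κ k := by rw [h1]
        _ = k⁻¹ * κ k * f := by group)
    exact CfsgLib.Core.FPFSymThree.eq_of_fixed_diff (k := 3)
      (((Nat.Prime.coprime_iff_not_dvd Nat.prime_three).mpr hK3).symm) κ
      (mul_inv_cancel_left k (κ k)).symm (hfixF _ hz) hκ3
  intro x
  have h1 := hall (((x : X ⧸ Φ)) : K)
  rw [hκ, quotAut_mk] at h1
  have h2 := QuotientGroup.eq.mp h1.symm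
  rw [← hVR]
  exact h2

/-- An action of the symmetric group of degree three without common fixed points. -/
theorem symThree_of_goal (hgoal : Goal.{u}) (h3 : ¬ 3 ∣ Nat.card X) (Sig : Subgroup (MulAut X))
    (hS3 : Nonempty (↥Sig ≃* Equiv.Perm (Fin 3)))
    (hfpf : ∀ g : X, (∀ σ ∈ Sig, σ g = g) → g = 1) :
    Group.IsSolvable X ∧ ¬ 2 ∣ (Cfsg.pPrimePCore 2 X).index ∧ ∀ σ ∈ Sig, orderOf σ = 3 →
      Cfsg.pPrimePCore 2 X ⊔ Subgroup.closure {g : X | σ g = g} = ⊤ := by
  classical
  obtain ⟨e⟩ := hS3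
  haveI : Finite (MulAut X) := Finite.of_injective _ MulEquiv.toEquiv_injective
  have hrel : ∀ a b : Equiv.Perm (Fin 3), a * a * a = 1 → a ≠ 1 → b * b = 1 → b ≠ 1 →
      b * a = a * a * b ∧ ∀ g, g = 1 ∨ g = a ∨ g = a * a ∨ g = b ∨ g = a * b ∨ g = a * a * b := by
    decide
  have key : ∀ σ ∈ Sig, orderOf σ = 3 → σ ^ 3 = 1 ∧ OddFix σ := by
    intro σ hσ ho
    refine ⟨ho ▸ pow_orderOf_eq_one σ, fun x hx hx2 => ?_⟩
    let τ : Sig := e.symm (Equiv.swap 0 1)
    have hτ2 : τ * τ = 1 := by rw [← map_mul, Equiv.swap_mul_self, map_one]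
    have hτ1 : τ ≠ 1 := fun h => by
      have := congrArg e h
      rw [MulEquiv.apply_symm_apply, map_one] at this
      exact absurd this (by decide)
    have hσ3 : (⟨σ, hσ⟩ : Sig) * ⟨σ, hσ⟩ * ⟨σ, hσ⟩ = 1 := Subtype.ext (by
      have := pow_orderOf_eq_one σ
      rw [ho, pow_succ, pow_two] at this
      exact this)
    have hσ1 : (⟨σ, hσ⟩ : Sig) ≠ 1 := fun h => by
      have h' : σ = 1 := congrArg Subtype.val h
      rw [h', orderOf_one] at ho
      omega
    obtain ⟨hba, hall⟩ := hrel (e ⟨σ, hσ⟩) (e τ) (by rw [← map_mul, ← map_mul, hσ3, map_one])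
      (fun h => hσ1 (e.injective (h.trans (map_one e).symm))) (by rw [← map_mul, hτ2, map_one])
      (fun h => hτ1 (e.injective (h.trans (map_one e).symm)))
    have hba' : τ * ⟨σ, hσ⟩ = ⟨σ, hσ⟩ * ⟨σ, hσ⟩ * τ := e.injective (by simpa only [map_mul] using hba)
    let C : Subgroup X :=
      { carrier := {z | σ z = z}
        mul_mem' := fun {a b} ha hb => show σ (a * b) = a * b by rw [map_mul, ha, hb]
        one_mem' := map_one σ
        inv_mem' := fun {a} ha => show σ a⁻¹ = a⁻¹ by rw [map_inv, ha] }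
    have hba'' : ∀ z, (τ : MulAut X) (σ z) = σ (σ ((τ : MulAut X) z)) := fun z => by
      have := DFunLike.congr_fun (congrArg Subtype.val hba') z
      exact this
    have hττ : ∀ z, (τ : MulAut X) ((τ : MulAut X) z) = z := fun z => by
      have := DFunLike.congr_fun (congrArg Subtype.val hτ2) z
      exact this
    have hCτ : ∀ z ∈ C, (τ : MulAut X) z ∈ C := fun z hz => by
      show σ ((τ : MulAut X) z) = (τ : MulAut X) z
      have h1 := hba'' z
      rw [show σ z = z from hz] at h1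
      conv_lhs => rw [h1]
      exact three_apply (ho ▸ pow_orderOf_eq_one σ) _
    let τC : MulAut C := ((τ : MulAut X).subgroupMap C).trans
      (MulEquiv.subgroupCongr (map_eq_of_invariant hCτ))
    have hfix : ∀ z : X, σ z = z → (τ : MulAut X) z = z → z = 1 := by
      intro z hz1 hz2
      refine hfpf z fun g hg => ?_
      have hg' := hall (e ⟨g, hg⟩)
      rw [← map_one e, ← map_mul, ← map_mul, ← map_mul] at hg'
      simp only [e.injective.eq_iff] at hg'
      rcases hg' with h | h | h | h | h | h <;> rw [show g = ((⟨g, hg⟩ : Sig) : MulAut X) from rfl, h] <;>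
        simp [MulAut.mul_apply, hz1, hz2]
    have hinv := CfsgLib.Core.FPFSymThree.inv_of_fpf_involution τC
      (fun z => Subtype.ext (hττ z)) (fun z hz => Subtype.ext (hfix z z.2 (congrArg Subtype.val hz)))
      ⟨x, hx⟩
    have h1 : (τ : MulAut X) x = x⁻¹ := congrArg Subtype.val hinv
    rw [inv_eq_of_mul_eq_one_left hx2] at h1
    exact hfix x hx h1
  obtain ⟨σ₀, hσ₀, ho₀⟩ : ∃ σ ∈ Sig, orderOf σ = 3 := by
    obtain ⟨g, hg⟩ := exists_prime_orderOf_dvd_card' (G := Sig) 3
      (by rw [Nat.card_congr e.toEquiv, Nat.card_perm, Nat.card_fin]; decide)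
    exact ⟨g, g.2, (orderOf_coe g).trans hg⟩
  have hsolv : Group.IsSolvable X :=
    isSolvable_of_oddFix hgoal h3 σ₀ (key σ₀ hσ₀ ho₀).1 (key σ₀ hσ₀ ho₀).2
  haveI := hsolv
  set O := Cfsg.pPrimeCore 2 X with hO
  haveI : O.Characteristic := CfsgLib.Components.pPrimeCore_characteristic 2
  set W := Cfsg.pPrimePCore 2 X with hW
  haveI : W.Normal := Subgroup.Normal.comap inferInstance _
  have h3' : ∀ H : Subgroup X, ¬ 3 ∣ Nat.card H := fun H h => h3 (h.trans (card_subgroup_dvd_card H))
  have hmain : ∀ σ ∈ Sig, orderOf σ = 3 →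
      (∀ x : X, x⁻¹ * σ x ∈ W) ∧ ∀ n ∈ W, σ n ∈ W := by
    intro σ hσ ho
    obtain ⟨hσ3, hodd⟩ := key σ hσ ho
    have hOσ : ∀ n ∈ O, σ n ∈ O := fun n hn =>
      (characteristic_iff_map_eq.mp inferInstance σ).le (mem_map_of_mem σ.toMonoidHom hn)
    have ht := trivial_mod_pCore (X := X ⧸ O) (fun h => h3 (h.trans (card_quotient_dvd_card O)))
      (CfsgLib.Core.pPrimeCore_quotient_pPrimeCore 2 X) (quotAut σ O hOσ) (quotAut_pow_three hσ3 O hOσ)
      (hodd.quot hσ3 O hOσ (h3' O) inferInstance)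
    have hmod : ∀ x : X, x⁻¹ * σ x ∈ W := fun x => by
      have h := ht (x : X ⧸ O)
      rw [quotAut_mk] at h
      exact h
    refine ⟨hmod, fun n hn => ?_⟩
    have h := mul_mem hn (hmod n)
    rwa [mul_inv_cancel_left] at h
  refine ⟨hsolv, fun h2 => ?_, fun σ hσ ho => ?_⟩
  · obtain ⟨hmod, hWσ⟩ := hmain σ₀ hσ₀ ho₀
    obtain ⟨y, hy⟩ := exists_prime_orderOf_dvd_card' (G := X ⧸ W) 2 h2
    obtain ⟨x, rfl⟩ := QuotientGroup.mk_surjective y
    have hx2 : x * x ∈ W := by
      rw [← QuotientGroup.eq_one_iff, QuotientGroup.mk_mul, ← pow_two, ← hy]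
      exact pow_orderOf_eq_one _
    have hxW := (key σ₀ hσ₀ ho₀).2.mem_of_fixed (key σ₀ hσ₀ ho₀).1 W hWσ (h3' W) inferInstance
      (hmod x) hx2
    rw [(QuotientGroup.eq_one_iff x).mpr hxW, orderOf_one] at hy
    omega
  · obtain ⟨hmod, hWσ⟩ := hmain σ hσ ho
    refine eq_top_iff.mpr fun x _ => ?_
    obtain ⟨n, hn, hfix⟩ := exists_fixed_lift (key σ hσ ho).1 W hWσ (h3' W) inferInstance (hmod x)
    rw [show x = x * n * n⁻¹ from (mul_inv_cancel_right x n).symm]
    exact mul_mem (mem_sup_right (subset_closure hfix)) (mem_sup_left (inv_mem hn))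

end CfsgLib.ThreePrime
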